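import Mathlib

/-! # Cayley–Bacharach sets of at most `3n + 1` points -/

set_option autoImplicit false
set_option linter.all false
universe u

open Module

namespace GrothLib.CBPoints25

variable {k : Type u} [Field k]

open Classical in
/-- The linear form of a functional. -/
noncomputable def form (f : Dual k (Fin 4 → k)) : MvPolynomial (Fin 4) k :=
  ∑ i, MvPolynomial.C (f (Pi.single i 1)) * MvPolynomial.X i

theorem form_homogeneous (f : Dual k (Fin 4 → k)) : (form f).IsHomogeneous 1 :=
  MvPolynomial.IsHomogeneous.sum _ _ 1 fun i _ => MvPolynomial.isHomogeneous_C_mul_X _ i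

theorem eval_form (f : Dual k (Fin 4 → k)) (v : (Fin 4 → k)) : MvPolynomial.eval v (form f) = f v := by
  classical
  conv_rhs => rw [pi_eq_sum_univ' v, map_sum]
  simp [form, mul_comm]

/-- Forms of degree `n` vanishing at all points but one vanish at it. -/
def CB (n : ℕ) (Z : Finset (Projectivization k (Fin 4 → k))) : Prop :=
  ∀ z ∈ Z, ∀ p : MvPolynomial (Fin 4) k, p.IsHomogeneous n →
    (∀ z' ∈ Z, z' ≠ z → MvPolynomial.eval z'.rep p = 0) → MvPolynomial.eval z.rep p = 0

theorem exists_form {W : Submodule k (Fin 4 → k)} {v : (Fin 4 → k)} (hv : v ∉ W) :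
    ∃ f : Dual k (Fin 4 → k), f v ≠ 0 ∧ ∀ w ∈ W, f w = 0 := by
  obtain ⟨f, hf, hW⟩ := Submodule.exists_dual_map_eq_bot_of_notMem hv inferInstance
  exact ⟨f, hf, fun w hw => LinearMap.mem_ker.1 (Submodule.map_le_iff_le_comap.1 hW.le hw)⟩

variable {n : ℕ} {Z : Finset (Projectivization k (Fin 4 → k))}

/-- No `n` subspaces miss one point and cover the others. -/
theorem CB.not_separated (hZ : CB n Z) {z : Projectivization k (Fin 4 → k)} (hz : z ∈ Z) {ι : Type} (s : Finset ι)
    (W : ι → Submodule k (Fin 4 → k)) (hs : s.card ≤ n) (hzW : ∀ i ∈ s, z.rep ∉ W i)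
    (hcov : ∀ z' ∈ Z, z' ≠ z → ∃ i ∈ s, z'.rep ∈ W i) : False := by
  classical
  have h : ∀ i, ∃ f : Dual k (Fin 4 → k), i ∈ s → f z.rep ≠ 0 ∧ ∀ w ∈ W i, f w = 0 := fun i => by
    by_cases hi : i ∈ s
    · obtain ⟨f, hf⟩ := exists_form (hzW i hi)
      exact ⟨f, fun _ => hf⟩
    · exact ⟨0, fun h => absurd h hi⟩
  choose f hf using h
  obtain ⟨g, hg, -⟩ := exists_form (W := (⊥ : Submodule k (Fin 4 → k))) (v := z.rep)
    (by rw [Submodule.mem_bot]; exact z.rep_nonzero)
  let p := (∏ i ∈ s, form (f i)) * form g ^ (n - s.card)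
  have hp : p.IsHomogeneous n := by
    have h1 := MvPolynomial.IsHomogeneous.prod s (fun i => form (f i)) (fun _ => 1) fun i _ => form_homogeneous _
    have h2 := (form_homogeneous g).pow (n - s.card)
    convert h1.mul h2 using 1
    simp; omega
  have h0 : MvPolynomial.eval z.rep p = 0 := hZ z hz p hp fun z' hz' hne => by
    obtain ⟨i, hi, hiW⟩ := hcov z' hz' hne
    rw [map_mul, map_prod, Finset.prod_eq_zero hi (by rw [eval_form]; exact (hf i hi).2 _ hiW), zero_mul]
  rw [map_mul, map_prod, map_pow, mul_eq_zero] at h0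
  rcases h0 with h0 | h0
  · obtain ⟨i, hi, h0⟩ := Finset.prod_eq_zero_iff.1 h0
    rw [eval_form] at h0
    exact (hf i hi).1 h0
  · have := eq_zero_of_pow_eq_zero h0
    rw [eval_form] at this
    exact hg this

theorem rep_notMem_span {z z' : Projectivization k (Fin 4 → k)} (h : z ≠ z') : z.rep ∉ k ∙ z'.rep := by
  intro hm
  obtain ⟨a, ha⟩ := Submodule.mem_span_singleton.1 hm
  refine h ?_
  rw [← z.mk_rep, ← z'.mk_rep, Projectivization.mk_eq_mk_iff']
  exact ⟨a, ha⟩

theorem CB.card_ge (hZ : CB n Z) (hne : Z.Nonempty) : n + 2 ≤ Z.card := by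
  classical
  by_contra hlt
  obtain ⟨z, hz⟩ := hne
  refine hZ.not_separated hz (Finset.univ : Finset (Fin (Z.erase z).card))
    (fun i => k ∙ ((Z.erase z).equivFin.symm i).1.rep) ?_ (fun i _ => rep_notMem_span ?_) fun z' hz' hne => ?_
  · rw [Finset.card_univ, Fintype.card_fin, Finset.card_erase_of_mem hz]; omega
  · exact fun e => (Finset.mem_erase.1 ((Z.erase z).equivFin.symm i).2).1 e.symm
  · refine ⟨(Z.erase z).equivFin ⟨z', Finset.mem_erase.2 ⟨hne, hz'⟩⟩, Finset.mem_univ _, ?_⟩
    rw [Equiv.symm_apply_apply]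
    exact Submodule.mem_span_singleton_self _

open Classical in
/-- The points outside a subspace. -/
noncomputable def resid (Z : Finset (Projectivization k (Fin 4 → k))) (W : Submodule k (Fin 4 → k)) : Finset (Projectivization k (Fin 4 → k)) :=
  Z.filter fun z => z.rep ∉ W

open Classical in
/-- The points in a subspace. -/
noncomputable def inside (Z : Finset (Projectivization k (Fin 4 → k))) (W : Submodule k (Fin 4 → k)) : Finset (Projectivization k (Fin 4 → k)) :=
  Z.filter fun z => z.rep ∈ W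

theorem mem_resid {W : Submodule k (Fin 4 → k)} {z : Projectivization k (Fin 4 → k)} : z ∈ resid Z W ↔ z ∈ Z ∧ z.rep ∉ W := by
  classical
  exact Finset.mem_filter

theorem mem_inside {W : Submodule k (Fin 4 → k)} {z : Projectivization k (Fin 4 → k)} : z ∈ inside Z W ↔ z ∈ Z ∧ z.rep ∈ W := by
  classical
  exact Finset.mem_filter

theorem card_split (Z : Finset (Projectivization k (Fin 4 → k))) (W : Submodule k (Fin 4 → k)) :
    (inside Z W).card + (resid Z W).card = Z.card := by
  classical
  exact Finset.card_filter_add_card_filter_not _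

theorem CB.resid {n : ℕ} (hZ : CB (n + 1) Z) (W : Submodule k (Fin 4 → k)) : CB n (resid Z W) := by
  intro z hz p hp hv
  obtain ⟨hzZ, hzW⟩ := mem_resid.1 hz
  obtain ⟨f, hf, hfW⟩ := exists_form hzW
  have h0 := hZ z hzZ (p * form f) (hp.mul (form_homogeneous f)) fun z' hz' hne => by
    rw [map_mul, eval_form]
    by_cases h : z'.rep ∈ W
    · rw [hfW _ h, mul_zero]
    · rw [hv z' (mem_resid.2 ⟨hz', h⟩) hne, zero_mul]
  rw [map_mul, eval_form, mul_eq_zero] at h0
  exact h0.resolve_right hf

theorem CB.card_resid_ge {n : ℕ} (hZ : CB (n + 1) Z) (W : Submodule k (Fin 4 → k)) {z : Projectivization k (Fin 4 → k)}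
    (hz : z ∈ Z) (hzW : z.rep ∉ W) : n + 2 ≤ (CBPoints25.resid Z W).card :=
  (hZ.resid W).card_ge ⟨z, mem_resid.2 ⟨hz, hzW⟩⟩

theorem finrank_sup_le (W W' : Submodule k (Fin 4 → k)) :
    finrank k (W ⊔ W' : Submodule k (Fin 4 → k)) ≤ finrank k W + finrank k W' := by
  have := Submodule.finrank_sup_add_finrank_inf_eq W W'
  omega

theorem finrank_line_le (v : (Fin 4 → k)) : finrank k (k ∙ v) ≤ 1 := by
  simpa using finrank_span_le_card (R := k) ({v} : Set (Fin 4 → k))

/-- At most `2n + 1` points are collinear. -/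
theorem CB.collinear : ∀ {n : ℕ} {Z : Finset (Projectivization k (Fin 4 → k))}, CB n Z → Z.card ≤ 2 * n + 1 →
    ∃ L : Submodule k (Fin 4 → k), finrank k L ≤ 2 ∧ ∀ z ∈ Z, z.rep ∈ L := by
  intro n
  induction n with
  | zero =>
    intro Z hZ hc
    rcases Z.eq_empty_or_nonempty with rfl | hne
    · exact ⟨⊥, by simp, fun z hz => absurd hz (Finset.notMem_empty z)⟩
    · have := hZ.card_ge hne; omega
  | succ m ih =>
    intro Z hZ hc
    by_contra hno
    have hoff : ∀ L : Submodule k (Fin 4 → k), finrank k L ≤ 2 → ∃ z ∈ Z, z.rep ∉ L := fun L hL => by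
      by_contra h
      exact hno ⟨L, hL, fun z hz => not_not.1 fun h' => h ⟨z, hz, h'⟩⟩
    obtain ⟨a, ha, -⟩ := hoff ⊥ (by simp)
    obtain ⟨b, hb, hba⟩ := hoff (k ∙ a.rep) ((finrank_line_le _).trans one_le_two)
    let W := (k ∙ a.rep) ⊔ (k ∙ b.rep)
    have hW : finrank k W ≤ 2 := (finrank_sup_le _ _).trans (Nat.add_le_add (finrank_line_le _) (finrank_line_le _))
    obtain ⟨c, hc', hcW⟩ := hoff W hW
    have h2 : 2 ≤ (inside Z W).card := by
      refine Finset.one_lt_card.2 ⟨a, mem_inside.2 ⟨ha, Submodule.mem_sup_left (Submodule.mem_span_singleton_self _)⟩,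
        b, mem_inside.2 ⟨hb, Submodule.mem_sup_right (Submodule.mem_span_singleton_self _)⟩, ?_⟩
      rintro rfl
      exact hba (Submodule.mem_span_singleton_self _)
    have h3 := card_split Z W
    have h4 := hZ.card_resid_ge W hc' hcW
    obtain ⟨L, hL, hLZ⟩ := ih (hZ.resid W) (by omega)
    obtain ⟨d, hd, hdL⟩ := hoff L hL
    have h5 := hZ.card_resid_ge L hd hdL
    have h6 : (CBPoints25.resid Z W).card ≤ (inside Z L).card :=
      Finset.card_le_card fun z hz => mem_inside.2 ⟨(mem_resid.1 hz).1, hLZ z hz⟩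
    have h7 := card_split Z L
    omega

/-- Two skew lines. -/
def TwoLines (n : ℕ) (Z : Finset (Projectivization k (Fin 4 → k))) : Prop :=
  ∃ L M : Submodule k (Fin 4 → k), finrank k L ≤ 2 ∧ finrank k M ≤ 2 ∧ L ⊓ M = ⊥ ∧
    (∀ z ∈ Z, z.rep ∈ L ∨ z.rep ∈ M) ∧ n + 2 ≤ (inside Z L).card ∧ n + 2 ≤ (inside Z M).card

theorem CB.main : ∀ {n : ℕ} {Z : Finset (Projectivization k (Fin 4 → k))}, CB n Z → Z.card ≤ 3 * n + 1 →
    (∃ W : Submodule k (Fin 4 → k), finrank k W ≤ 3 ∧ ∀ z ∈ Z, z.rep ∈ W) ∨ TwoLines n Z := by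
  intro n
  induction n with
  | zero =>
    intro Z hZ hc
    obtain ⟨L, hL, hLZ⟩ := hZ.collinear (by omega)
    exact Or.inl ⟨L, by omega, hLZ⟩
  | succ m ih =>
    intro Z hZ hc
    refine or_iff_not_imp_left.2 fun hno => ?_
    have hoff : ∀ W : Submodule k (Fin 4 → k), finrank k W ≤ 3 → ∃ z ∈ Z, z.rep ∉ W := fun W hW => by
      by_contra h
      exact hno ⟨W, hW, fun z hz => not_not.1 fun h' => h ⟨z, hz, h'⟩⟩
    -- a line with many points extends to a plane with more
    have hext : ∀ L : Submodule k (Fin 4 → k), finrank k L ≤ 2 →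
        ∃ P : Submodule k (Fin 4 → k), finrank k P ≤ 3 ∧ L ≤ P ∧ (inside Z L).card + 1 ≤ (inside Z P).card := fun L hL => by
      classical
      obtain ⟨p, hp, hpL⟩ := hoff L (by omega)
      refine ⟨L ⊔ k ∙ p.rep, (finrank_sup_le _ _).trans (Nat.add_le_add hL (finrank_line_le _)), le_sup_left, ?_⟩
      have hsub : insert p (inside Z L) ⊆ inside Z (L ⊔ k ∙ p.rep) := by
        intro z hz
        rcases Finset.mem_insert.1 hz with rfl | hz
        · exact mem_inside.2 ⟨hp, Submodule.mem_sup_right (Submodule.mem_span_singleton_self _)⟩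
        · exact mem_inside.2 ⟨(mem_inside.1 hz).1, Submodule.mem_sup_left (mem_inside.1 hz).2⟩
      have := Finset.card_le_card hsub
      rwa [Finset.card_insert_of_notMem fun h => hpL (mem_inside.1 h).2] at this
    -- a plane with at least `m + 3` points
    have hbig : ∃ P : Submodule k (Fin 4 → k), finrank k P ≤ 3 ∧ m + 3 ≤ (inside Z P).card := by
      by_contra hsmall
      have hsmall' : ∀ P : Submodule k (Fin 4 → k), finrank k P ≤ 3 → (inside Z P).card ≤ m + 2 := fun P hP => by
        by_contra h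
        exact hsmall ⟨P, hP, by omega⟩
      obtain ⟨a, ha, -⟩ := hoff ⊥ (by simp)
      obtain ⟨b, hb, hba⟩ := hoff (k ∙ a.rep) ((finrank_line_le _).trans (by omega))
      have hab : finrank k ((k ∙ a.rep) ⊔ (k ∙ b.rep) : Submodule k (Fin 4 → k)) ≤ 2 :=
        (finrank_sup_le _ _).trans (Nat.add_le_add (finrank_line_le _) (finrank_line_le _))
      have h2 : 2 ≤ (inside Z ((k ∙ a.rep) ⊔ (k ∙ b.rep))).card := by
        refine Finset.one_lt_card.2 ⟨a, mem_inside.2 ⟨ha, Submodule.mem_sup_left (Submodule.mem_span_singleton_self _)⟩,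
          b, mem_inside.2 ⟨hb, Submodule.mem_sup_right (Submodule.mem_span_singleton_self _)⟩, ?_⟩
        rintro rfl
        exact hba (Submodule.mem_span_singleton_self _)
      obtain ⟨P, hP, -, hP3⟩ := hext _ hab
      have hPle := hsmall' P hP
      obtain ⟨z, hz, hzP⟩ := hoff P hP
      have h4 := hZ.card_resid_ge P hz hzP
      have h5 := card_split Z P
      have hsub : ∀ L : Submodule k (Fin 4 → k), (inside (CBPoints25.resid Z P) L).card ≤ (inside Z L).card := fun L =>
        Finset.card_le_card fun y hy => mem_inside.2 ⟨(mem_resid.1 (mem_inside.1 hy).1).1, (mem_inside.1 hy).2⟩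
      have hline : ∀ L : Submodule k (Fin 4 → k), finrank k L ≤ 2 → (inside (CBPoints25.resid Z P) L).card ≤ m + 1 := fun L hL => by
        obtain ⟨Q, hQ, -, hQc⟩ := hext L hL
        have := hsmall' Q hQ
        have := hsub L
        omega
      have hall : ∀ W : Submodule k (Fin 4 → k), (∀ y ∈ CBPoints25.resid Z P, y.rep ∈ W) →
          (CBPoints25.resid Z P).card ≤ (inside (CBPoints25.resid Z P) W).card := fun W hW =>
        Finset.card_le_card fun y hy => mem_inside.2 ⟨hy, hW y hy⟩
      rcases ih (hZ.resid P) (by omega) with ⟨W, hW, hWZ⟩ | ⟨L, M, hL, -, -, -, hLc, -⟩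
      · have h6 := hall W hWZ
        have h7 := hsmall' W hW
        have h8 := hsub W
        obtain ⟨L, hL, hLZ⟩ := (hZ.resid P).collinear (by omega)
        have h9 := hall L hLZ
        have h10 := hline L hL
        omega
      · have := hline L hL
        omega
    obtain ⟨P, hP, hPc⟩ := hbig
    obtain ⟨z, hz, hzP⟩ := hoff P hP
    have h1 := card_split Z P
    have h2 := hZ.card_resid_ge P hz hzP
    obtain ⟨L, hL, hLZ⟩ := (hZ.resid P).collinear (by omega)
    have h3 : (CBPoints25.resid Z P).card ≤ (inside Z L).card :=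
      Finset.card_le_card fun y hy => mem_inside.2 ⟨(mem_resid.1 hy).1, hLZ y hy⟩
    obtain ⟨Q, hQ, hLQ, hQc⟩ := hext L hL
    obtain ⟨w, hw, hwQ⟩ := hoff Q hQ
    have h4 := card_split Z Q
    have h5 := hZ.card_resid_ge Q hw hwQ
    obtain ⟨M, hM, hMZ⟩ := (hZ.resid Q).collinear (by omega)
    have h6 : (CBPoints25.resid Z Q).card ≤ (inside Z M).card :=
      Finset.card_le_card fun y hy => mem_inside.2 ⟨(mem_resid.1 hy).1, hMZ y hy⟩
    have hskew : L ⊓ M = ⊥ := by
      by_contra hne
      have hpos : 1 ≤ finrank k (L ⊓ M : Submodule k (Fin 4 → k)) := Submodule.one_le_finrank_iff.2 hne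
      have := Submodule.finrank_sup_add_finrank_inf_eq L M
      obtain ⟨v, hv, hvP⟩ := hoff (L ⊔ M) (by omega)
      have h7 := hZ.card_resid_ge (L ⊔ M) hv hvP
      have h8 := card_split Z (L ⊔ M)
      have h9 : (inside Z L).card + (CBPoints25.resid Z Q).card ≤ (inside Z (L ⊔ M)).card := by
        classical
        rw [← Finset.card_union_of_disjoint]
        · refine Finset.card_le_card fun y hy => ?_
          rcases Finset.mem_union.1 hy with hy | hy
          · exact mem_inside.2 ⟨(mem_inside.1 hy).1, Submodule.mem_sup_left (mem_inside.1 hy).2⟩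
          · exact mem_inside.2 ⟨(mem_resid.1 hy).1, Submodule.mem_sup_right (hMZ y hy)⟩
        · exact Finset.disjoint_left.2 fun y hy hy' => (mem_resid.1 hy').2 (hLQ (mem_inside.1 hy).2)
      omega
    have hdis : ∀ y : Projectivization k (Fin 4 → k), y.rep ∈ L → y.rep ∉ M := fun y hy hy' =>
      y.rep_nonzero ((Submodule.mem_bot k).1 (hskew ▸ Submodule.mem_inf.2 ⟨hy, hy'⟩))
    have hcount : (inside Z L).card + (inside Z M).card + ((CBPoints25.resid (CBPoints25.resid Z L) M)).card = Z.card := by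
      have e1 := card_split Z L
      have e2 := card_split (CBPoints25.resid Z L) M
      have e3 : inside (CBPoints25.resid Z L) M = inside Z M := by
        ext y
        simp only [mem_inside, mem_resid]
        exact ⟨fun h => ⟨h.1.1, h.2⟩, fun h => ⟨⟨h.1, fun hy => hdis y hy h.2⟩, h.2⟩⟩
      rw [e3] at e2
      omega
    have hcov : ∀ y ∈ Z, y.rep ∈ L ∨ y.rep ∈ M := by
      classical
      intro r hr
      by_contra hn
      rw [not_or] at hn
      let R := (CBPoints25.resid (CBPoints25.resid Z L) M).erase r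
      have hR : R.card + 1 = (CBPoints25.resid (CBPoints25.resid Z L) M).card :=
        Finset.card_erase_add_one (mem_resid.2 ⟨mem_resid.2 ⟨hr, hn.1⟩, hn.2⟩)
      refine hZ.not_separated hr (Finset.univ : Finset (Bool ⊕ Fin R.card))
        (Sum.elim (fun b => bif b then L else M) fun i => k ∙ (R.equivFin.symm i).1.rep) ?_ ?_ ?_
      · simp only [Finset.card_univ, Fintype.card_sum, Fintype.card_bool, Fintype.card_fin]
        omega
      · rintro ((_|_) | i) -
        · exact hn.2
        · exact hn.1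
        · exact rep_notMem_span fun e => (Finset.mem_erase.1 (R.equivFin.symm i).2).1 e.symm
      · intro y hy hyr
        by_cases hyL : y.rep ∈ L
        · exact ⟨Sum.inl true, Finset.mem_univ _, hyL⟩
        by_cases hyM : y.rep ∈ M
        · exact ⟨Sum.inl false, Finset.mem_univ _, hyM⟩
        refine ⟨Sum.inr (R.equivFin ⟨y, Finset.mem_erase.2 ⟨hyr, mem_resid.2 ⟨mem_resid.2 ⟨hy, hyL⟩, hyM⟩⟩⟩),
          Finset.mem_univ _, ?_⟩
        simp only [Sum.elim_inr, Equiv.symm_apply_apply]
        exact Submodule.mem_span_singleton_self _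
    -- each line carries `m + 3` points
    have hline : ∀ A B : Submodule k (Fin 4 → k), finrank k A ≤ 2 → finrank k B ≤ 2 → A ⊓ B = ⊥ →
        (∀ y ∈ Z, y.rep ∈ A ∨ y.rep ∈ B) → 2 ≤ (inside Z A).card → m + 3 ≤ (inside Z A).card := by
      classical
      intro A B hA hB hAB hcv h2
      by_contra hlt
      obtain ⟨r, hr, q, hq, hrq⟩ := Finset.one_lt_card.1 h2
      let R := ((inside Z A).erase r).erase q
      have hR : R.card + 2 = (inside Z A).card := by
        have e1 := Finset.card_erase_add_one hr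
        have e2 : R.card + 1 = ((inside Z A).erase r).card :=
          Finset.card_erase_add_one (Finset.mem_erase.2 ⟨hrq.symm, hq⟩)
        omega
      refine hZ.not_separated (mem_inside.1 hr).1 (Finset.univ : Finset (Unit ⊕ Fin R.card))
        (Sum.elim (fun _ => B ⊔ k ∙ q.rep) fun i => k ∙ (R.equivFin.symm i).1.rep) ?_ ?_ ?_
      · simp only [Finset.card_univ, Fintype.card_sum, Fintype.card_unit, Fintype.card_fin]
        omega
      · rintro (⟨⟩ | i) -
        · intro hm
          obtain ⟨b, hb, x, hx, he⟩ := Submodule.mem_sup.1 hm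
          have hxA : x ∈ A := (Submodule.span_singleton_le_iff_mem _ _).2 (mem_inside.1 hq).2 hx
          have hbA : b ∈ A := by
            have : b = r.rep - x := eq_sub_of_add_eq he
            rw [this]
            exact sub_mem (mem_inside.1 hr).2 hxA
          have hb0 : b = 0 := (Submodule.mem_bot k).1 (hAB ▸ Submodule.mem_inf.2 ⟨hbA, hb⟩)
          rw [hb0, zero_add] at he
          exact rep_notMem_span hrq (he ▸ hx)
        · exact rep_notMem_span fun e => (Finset.mem_erase.1 (Finset.mem_erase.1 (R.equivFin.symm i).2).2).1 e.symm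
      · intro y hy hyr
        by_cases hyq : y = q
        · subst hyq
          exact ⟨Sum.inl (), Finset.mem_univ _, Submodule.mem_sup_right (Submodule.mem_span_singleton_self _)⟩
        rcases hcv y hy with hyA | hyB
        · refine ⟨Sum.inr (R.equivFin ⟨y, Finset.mem_erase.2 ⟨hyq, Finset.mem_erase.2 ⟨hyr, mem_inside.2 ⟨hy, hyA⟩⟩⟩⟩),
            Finset.mem_univ _, ?_⟩
          simp only [Sum.elim_inr, Equiv.symm_apply_apply]
          exact Submodule.mem_span_singleton_self _
        · exact ⟨Sum.inl (), Finset.mem_univ _, Submodule.mem_sup_left hyB⟩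
    exact ⟨L, M, hL, hM, hskew, hcov, hline L M hL hM hskew hcov (by omega),
      hline M L hM hL (by rw [inf_comm]; exact hskew) (fun y hy => (hcov y hy).symm) (by omega)⟩

theorem exists_ge_finrank (W : Submodule k (Fin 4 → k)) {r : ℕ} (hW : finrank k W ≤ r) (hr : r ≤ 4) :
    ∃ W' : Submodule k (Fin 4 → k), W ≤ W' ∧ finrank k W' = r := by
  induction r, hW using Nat.le_induction with
  | base => exact ⟨W, le_rfl, rfl⟩
  | succ r _ ih =>
    obtain ⟨W', hle, he⟩ := ih (by omega)
    obtain ⟨v, hv⟩ : ∃ v, v ∉ W' := by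
      by_contra h
      push Not at h
      have : W' = ⊤ := eq_top_iff.2 fun v _ => h v
      rw [this, finrank_top, finrank_fin_fun] at he
      omega
    refine ⟨W' ⊔ k ∙ v, hle.trans le_sup_left, le_antisymm
      ((finrank_sup_le _ _).trans (Nat.add_le_add he.le (finrank_line_le _))) ?_⟩
    have : finrank k W' < finrank k (W' ⊔ k ∙ v : Submodule k (Fin 4 → k)) :=
      Submodule.finrank_lt_finrank_of_lt (lt_of_le_of_ne le_sup_left fun e =>
        hv (e ▸ Submodule.mem_sup_right (Submodule.mem_span_singleton_self _)))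
    omega

theorem submodule_le_iff (z : Projectivization k (Fin 4 → k)) (W : Submodule k (Fin 4 → k)) : z.submodule ≤ W ↔ z.rep ∈ W := by
  rw [Projectivization.submodule_eq, Submodule.span_singleton_le_iff_mem]

/-- The statement with planes and lines of exact dimension. -/
theorem CB.result {n : ℕ} {Z : Finset (Projectivization k (Fin 4 → k))} (hZ : CB n Z) (hc : Z.card ≤ 3 * n + 1) :
    (∃ W : Submodule k (Fin 4 → k), finrank k ↥W = 3 ∧ ∀ z ∈ Z, z.submodule ≤ W) ∨
      (∃ W₁ W₂ : Submodule k (Fin 4 → k), finrank k ↥W₁ = 2 ∧ finrank k ↥W₂ = 2 ∧ W₁ ⊓ W₂ = ⊥ ∧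
        (∀ z ∈ Z, z.submodule ≤ W₁ ∨ z.submodule ≤ W₂) ∧
        n + 1 ≤ Set.ncard {z : Projectivization k (Fin 4 → k) | z ∈ Z ∧ z.submodule ≤ W₁} ∧
        n + 1 ≤ Set.ncard {z : Projectivization k (Fin 4 → k) | z ∈ Z ∧ z.submodule ≤ W₂} ∧
        2 * n + 3 ≤ Z.card) := by
  have plane : ∀ W : Submodule k (Fin 4 → k), finrank k W ≤ 3 → (∀ z ∈ Z, z.rep ∈ W) →
      ∃ W : Submodule k (Fin 4 → k), finrank k ↥W = 3 ∧ ∀ z ∈ Z, z.submodule ≤ W := fun W hW hWZ => by
    obtain ⟨W', hle, he⟩ := exists_ge_finrank W hW (by omega)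
    exact ⟨W', he, fun z hz => (submodule_le_iff z W').2 (hle (hWZ z hz))⟩
  rcases hZ.main hc with ⟨W, hW, hWZ⟩ | ⟨L, M, hL, hM, hLM, hcov, hLc, hMc⟩
  · exact Or.inl (plane W hW hWZ)
  refine or_iff_not_imp_left.2 fun hno => ?_
  have hsum : finrank k (L ⊔ M : Submodule k (Fin 4 → k)) ≤ finrank k L + finrank k M := finrank_sup_le _ _
  have h4 : 4 ≤ finrank k L + finrank k M := by
    by_contra h
    exact hno (plane (L ⊔ M) (by omega) fun z hz =>
      (hcov z hz).elim Submodule.mem_sup_left Submodule.mem_sup_right)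
  have hset : ∀ A : Submodule k (Fin 4 → k), Set.ncard {z : Projectivization k (Fin 4 → k) | z ∈ Z ∧ z.submodule ≤ A} = (inside Z A).card :=
    fun A => by
      rw [← Set.ncard_coe_finset]
      congr 1
      ext z
      simp [mem_inside, submodule_le_iff]
  refine ⟨L, M, by omega, by omega, hLM,
    fun z hz => (hcov z hz).imp (submodule_le_iff z L).2 (submodule_le_iff z M).2, by rw [hset]; omega,
    by rw [hset]; omega, ?_⟩
  have h5 : (inside Z L).card + (inside Z M).card ≤ Z.card := by
    classical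
    rw [← Finset.card_union_of_disjoint]
    · exact Finset.card_le_card (Finset.union_subset (fun y hy => (mem_inside.1 hy).1) fun y hy => (mem_inside.1 hy).1)
    · exact Finset.disjoint_left.2 fun y hy hy' => y.rep_nonzero
        ((Submodule.mem_bot k).1 (hLM ▸ Submodule.mem_inf.2 ⟨(mem_inside.1 hy).2, (mem_inside.1 hy').2⟩))
  omega

end GrothLib.CBPoints25
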